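import Groth.Prelude.Def_EtMod2
import Mathlib.CategoryTheory.Sites.Pullback
import Mathlib.CategoryTheory.Functor.Flat

/-!
Inverse image of sheaves of modules on small etale sites is exact.
-/

universe u v₁ u₁

open CategoryTheory CategoryTheory.Limits AlgebraicGeometry Opposite

set_option backward.isDefEq.respectTransparency.types false

namespace Groth.Agent.Six47

set_option backward.defeqAttrib.useBackward true in
set_option backward.isDefEq.respectTransparency false in
/-- Evaluation of left Kan extensions as colimits, in any universes. -/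
noncomputable def lanEvalIso {C D E : Type*} [Category* C] [Category* D] [Category* E] (F : C ⥤ D) (X : D)
    [∀ X : D, HasColimitsOfShape (CostructuredArrow F X) E] :
    F.lan ⋙ (evaluation D E).obj X ≅
      (Functor.whiskeringLeft _ _ E).obj (CostructuredArrow.proj F X) ⋙ colim :=
  NatIso.ofComponents (fun G =>
    IsColimit.coconePointUniqueUpToIso
    (Functor.isPointwiseLeftKanExtensionLeftKanExtensionUnit F G X)
    (colimit.isColimit _)) (fun {G₁ G₂} φ => by
      apply (Functor.isPointwiseLeftKanExtensionLeftKanExtensionUnit F G₁ X).hom_ext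
      intro T
      have h₁ := fun (G : C ⥤ E) => IsColimit.comp_coconePointUniqueUpToIso_hom
        (Functor.isPointwiseLeftKanExtensionLeftKanExtensionUnit F G X) (colimit.isColimit _) T
      have h₂ := congr_app (F.lanUnit.naturality φ) T.left
      dsimp at h₁ h₂ ⊢
      simp only [Category.assoc] at h₁ ⊢
      simp only [Functor.lan, Functor.lanUnit] at h₂ ⊢
      rw [reassoc_of% h₁, NatTrans.naturality_assoc, ← reassoc_of% h₂, h₁,
        ι_colimMap, Functor.whiskerLeft_app]
      rfl)

section Lan

variable (Λ : Type (u + 1)) [CommRing Λ]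

/-- Filtered colimits indexed by categories with objects one universe up commute with finite limits. -/
theorem preservesFiniteLimits_colim (T : Type (u + 1)) [Category.{u} T] [IsFiltered T]
    [HasColimitsOfShape T (ModuleCat.{u + 1} Λ)] : PreservesFiniteLimits (colim : (T ⥤ (ModuleCat.{u + 1} Λ)) ⥤ (ModuleCat.{u + 1} Λ)) := by
  let e : T ≌ AsSmall.{u + 1} T := AsSmall.equiv
  have : IsFiltered (AsSmall.{u + 1} T) := IsFiltered.of_equivalence e
  have : PreservesFiniteLimits
      ((Functor.whiskeringLeft (AsSmall.{u + 1} T) T (ModuleCat.{u + 1} Λ)).obj e.inverse ⋙ colim) := by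
    apply preservesFiniteLimits_of_preservesFiniteLimitsOfSize.{u + 1}
    intro J _ _
    have := PreservesFilteredColimitsOfSize.preserves_filtered_colimits (F := (forget (ModuleCat.{u + 1} Λ) : (ModuleCat.{u + 1} Λ) ⥤ Type (u + 1))) (AsSmall.{u + 1} T)
    exact comp_preservesLimitsOfShape _ _
  exact preservesFiniteLimits_of_natIso (Functor.Final.colimIso e.inverse)

theorem preservesFiniteLimits_lan {C D : Type (u + 1)} [Category.{u} C] [Category.{u} D] (G : C ⥤ D)
    [RepresentablyFlat G] [∀ X : Dᵒᵖ, HasColimitsOfShape (CostructuredArrow G.op X) (ModuleCat.{u + 1} Λ)] :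
    PreservesFiniteLimits (G.op.lan : (Cᵒᵖ ⥤ (ModuleCat.{u + 1} Λ)) ⥤ Dᵒᵖ ⥤ (ModuleCat.{u + 1} Λ)) := by
  apply preservesFiniteLimits_of_preservesFiniteLimitsOfSize.{u + 1}
  intro J _ _
  apply preservesLimitsOfShape_of_evaluation (G.op.lan : (Cᵒᵖ ⥤ (ModuleCat.{u + 1} Λ)) ⥤ Dᵒᵖ ⥤ (ModuleCat.{u + 1} Λ)) J
  intro K
  have : IsFiltered (CostructuredArrow G.op K) :=
    IsFiltered.of_equivalence (structuredArrowOpEquivalence G (unop K))
  have := preservesFiniteLimits_colim Λ (CostructuredArrow G.op K)
  exact preservesLimitsOfShape_of_natIso (lanEvalIso (E := ModuleCat.{u + 1} Λ) G.op K).symm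

end Lan

variable (Λ : Type (u + 1)) [CommRing Λ] {X Y : Scheme.{u}}

/-- Inverse image of sheaves of modules on small etale sites is exact. -/
theorem preservesFiniteLimits_pullMod (f : X ⟶ Y) : PreservesFiniteLimits (EtModW.pull Λ f) := by
  have : RepresentablyFlat (EtCoh.bc f) := flat_of_preservesFiniteLimits _
  have := preservesFiniteLimits_lan Λ (EtCoh.bc f)
  exact Functor.sheafPullbackConstruction.preservesFiniteLimits _ _ _ _

theorem preservesFiniteColimits_pullMod (f : X ⟶ Y) : PreservesFiniteColimits (EtModW.pull Λ f) :=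
  have := ((EtCoh.bc f).sheafAdjunctionContinuous (ModuleCat.{u + 1} Λ) Y.smallEtaleTopology
    X.smallEtaleTopology).leftAdjoint_preservesColimits.{0, 0}
  ⟨fun J _ _ => inferInstance⟩

end Groth.Agent.Six47
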