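import Groth.Prelude.Def_SixF1
import Groth.Agent.Mod48.KInjDerived
import Groth.Agent.CohDer42.KInj
import Groth.Agent.Fib44.KInjAdj
import Groth.Agent.Unr55.Et.PullExact
import Groth.Agent.Six47.PullExact

/-!
The composition morphisms of derived direct images are isomorphisms.
-/

universe u v₁ v₂ v₃ w₁ w₂ w₃ u₁ u₂ u₃

open CategoryTheory CategoryTheory.Limits AlgebraicGeometry

set_option backward.isDefEq.respectTransparency.types false

namespace Groth.Agent.Six47

section Plus

variable {A : Type u₁} [Category.{v₁} A] [Abelian A] {B : Type u₂} [Category.{v₂} B] [Abelian B]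
  {C : Type u₃} [Category.{v₃} C] [Abelian C]
  [HasDerivedCategory.{w₁} A] [HasDerivedCategory.{w₂} B] [HasDerivedCategory.{w₃} C]
  [EnoughInjectives A] [EnoughInjectives B]

lemma exists_injective_iso (Z : DerivedCategory.Plus A) :
    ∃ X : CochainComplex.Plus (InjectiveObject A),
      Nonempty (DerivedCategory.Plus.Qh.obj ((HomotopyCategory.Plus.quotient A).obj
        ((InjectiveObject.ι A).mapCochainComplexPlus.obj X)) ≅ Z) := by
  obtain ⟨K₀, hK₀⟩ := HomotopyCategory.Plus.quotient_obj_surjective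
    (DerivedCategory.Plus.Qh.objPreimage Z)
  obtain ⟨n, hn⟩ := K₀.property
  have : K₀.obj.IsStrictlyGE n := hn
  obtain ⟨X, -, i, hi⟩ := CochainComplex.Plus.exists_quasiIso_injective K₀ n
  have : QuasiIso i.hom := hi
  have : IsIso (DerivedCategory.Plus.Qh.map ((HomotopyCategory.Plus.quotient A).map i)) :=
    Localization.inverts DerivedCategory.Plus.Qh (HomotopyCategory.Plus.quasiIso A) _
      ((HomotopyCategory.quotient_map_mem_quasiIso_iff i.hom).2
        ((HomologicalComplex.mem_quasiIso_iff _).2 this))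
  exact ⟨X, ⟨(asIso (DerivedCategory.Plus.Qh.map ((HomotopyCategory.Plus.quotient A).map i))).symm ≪≫
    eqToIso (congrArg DerivedCategory.Plus.Qh.obj hK₀) ≪≫ DerivedCategory.Plus.Qh.objObjPreimageIso Z⟩⟩

/-- A bounded below complex of injectives, as a complex in the category of injective objects. -/
def liftInj (L : CochainComplex.Plus B) (h : ∀ n, Injective (L.obj.X n)) :
    CochainComplex.Plus (InjectiveObject B) :=
  ⟨HomologicalComplex.liftObjectProperty _ L.obj h, by
    obtain ⟨n, hn⟩ := L.property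
    refine ⟨n, ?_⟩
    rw [← CochainComplex.isStrictlyGE_mapHomologicalComplex_obj_iff _ (InjectiveObject.ι B)]
    exact hn⟩

lemma isIso_unit_of_injective (G : B ⥤ C) [G.Additive] (L : CochainComplex.Plus B)
    (h : ∀ n, Injective (L.obj.X n)) :
    IsIso (G.rightDerivedFunctorPlusUnit.app ((HomotopyCategory.Plus.quotient B).obj L)) :=
  inferInstanceAs (IsIso (G.rightDerivedFunctorPlusUnit.app ((HomotopyCategory.Plus.quotient B).obj
    ((InjectiveObject.ι B).mapCochainComplexPlus.obj (liftInj L h)))))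

/-- The composition morphism of bounded below right derived functors is invertible when the first
functor preserves injective objects. -/
theorem isIso_rPlusDesc₂ {F : A ⥤ B} {G : B ⥤ C} {H : A ⥤ C} [F.Additive] [G.Additive] [H.Additive]
    (θ : H ⟶ F ⋙ G) [IsIso θ] (hF : ∀ I : A, Injective I → Injective (F.obj I)) :
    IsIso (EtSix.rPlusDesc₂ θ) := by
  suffices ∀ Z, IsIso ((EtSix.rPlusDesc₂ θ).app Z) from NatIso.isIso_of_isIso_app _
  intro Z
  obtain ⟨X, ⟨e⟩⟩ := exists_injective_iso Z
  rw [← NatTrans.isIso_app_iff_of_iso (EtSix.rPlusDesc₂ θ) e]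
  let K := (InjectiveObject.ι A).mapCochainComplexPlus.obj X
  let X' := (HomotopyCategory.Plus.quotient A).obj K
  have hfac := H.rightDerivedFunctorPlus.rightDerived_fac_app H.rightDerivedFunctorPlusUnit
    (HomotopyCategory.Plus.quasiIso A) (F.rightDerivedFunctorPlus ⋙ G.rightDerivedFunctorPlus)
    (EtSix.rPlusUnit₂ θ) X'
  have h1 : IsIso (H.rightDerivedFunctorPlusUnit.app X') := inferInstance
  have h2 : IsIso (F.rightDerivedFunctorPlusUnit.app X') := inferInstance
  have h3 : IsIso (G.rightDerivedFunctorPlusUnit.app (F.mapHomotopyCategoryPlus.obj X')) :=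
    isIso_unit_of_injective G (F.mapCochainComplexPlus.obj K) fun n => hF _ (X.obj.X n).property
  have h4 : IsIso ((EtSix.plusNatTrans θ).app X') := by
    have : IsIso (((HomotopyCategory.plus C).ι).map ((EtSix.plusNatTrans θ).app X')) := by
      have h : IsIso ((NatTrans.mapHomotopyCategory θ (ComplexShape.up ℤ)).app
          ((HomotopyCategory.Plus.ι A).obj X')) := by
        have : IsIso ((NatTrans.mapHomologicalComplex θ (ComplexShape.up ℤ)).app K.obj) :=
          have : ∀ n, IsIso (((NatTrans.mapHomologicalComplex θ (ComplexShape.up ℤ)).app K.obj).f n) :=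
            fun n => inferInstanceAs (IsIso (θ.app _))
          HomologicalComplex.Hom.isIso_of_components _
        exact Functor.map_isIso (HomotopyCategory.quotient C (ComplexShape.up ℤ))
          ((NatTrans.mapHomologicalComplex θ (ComplexShape.up ℤ)).app K.obj)
      have he : ((HomotopyCategory.plus C).ι).map ((EtSix.plusNatTrans θ).app X') =
          (NatTrans.mapHomotopyCategory θ (ComplexShape.up ℤ)).app ((HomotopyCategory.Plus.ι A).obj X') :=
        (HomotopyCategory.plus C).fullyFaithfulι.map_preimage (X := H.mapHomotopyCategoryPlus.obj X') (Y := (F ⋙ G).mapHomotopyCategoryPlus.obj X')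
          ((NatTrans.mapHomotopyCategory θ (ComplexShape.up ℤ)).app ((HomotopyCategory.Plus.ι A).obj X'))
      exact he.symm ▸ h
    exact isIso_of_fully_faithful (HomotopyCategory.plus C).ι _
  have h5 : IsIso ((EtSix.rPlusUnit₂ θ).app X') := by
    simp only [EtSix.rPlusUnit₂, NatTrans.comp_app, Functor.associator_hom_app, Functor.associator_inv_app,
      Functor.whiskerLeft_app, Functor.whiskerRight_app, Category.id_comp, Category.comp_id]
    refine @IsIso.comp_isIso _ _ _ _ _ _ _ ?_ ?_
    · exact @Functor.map_isIso _ _ _ _ _ _ DerivedCategory.Plus.Qh _ (@IsIso.comp_isIso _ _ _ _ _ _ _ h4 inferInstance)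
    · exact @IsIso.comp_isIso _ _ _ _ _ _ _ h3
        (@Functor.map_isIso _ _ _ _ _ _ G.rightDerivedFunctorPlus _ h2)
  exact @IsIso.of_isIso_comp_left _ _ _ _ _ _ _ h1 (hfac.symm ▸ h5)

end Plus

section Et

attribute [local instance] HasDerivedCategory.standard

variable {X Y Z : Scheme.{u}} (f : X ⟶ Y) (g : Y ⟶ Z)

lemma enoughKInj_ab (X : Scheme.{u}) : Mod48.EnoughKInj (EtCoh.Ab X) := fun M => by
  obtain ⟨I, φ, hI, hφ, -⟩ := CohDer42.exists_kinjective_resolution M
  exact ⟨I, φ, hI, hφ⟩

theorem isIso_compMap [DCoh.HasRpushEt X f] [DCoh.HasRpushEt Y g] [DCoh.HasRpushEt X (f ≫ g)] :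
    IsIso (EtSix.compMap f g) := by
  suffices ∀ Z, IsIso ((EtSix.compMap f g).app Z) from NatIso.isIso_of_isIso_app _
  intro W
  obtain ⟨I, hI, ⟨e⟩⟩ := Mod48.exists_Qh_iso_kInjective (EtCoh.Ab X) (enoughKInj_ab X) W
  rw [← NatTrans.isIso_app_iff_of_iso (EtSix.compMap f g) e]
  let WX := HomotopyCategory.quasiIso (EtCoh.Ab X) (ComplexShape.up ℤ)
  let WY := HomotopyCategory.quasiIso (EtCoh.Ab Y) (ComplexShape.up ℤ)
  let I' := (HomotopyCategory.quotient (EtCoh.Ab X) (ComplexShape.up ℤ)).obj I
  have := Unr55.EtSh.preservesFiniteLimits_pull f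
  have := (EtCoh.pullPushAdj f).leftAdjoint_preservesColimits.{0, 0}
  have : (EtCoh.pull f).Additive := (EtCoh.pullPushAdj f).left_adjoint_additive
  have : PreservesFiniteColimits (EtCoh.pull f) := ⟨fun J _ _ => inferInstance⟩
  have hJ := Fib44.isKInjective_map_of_adj (EtCoh.pullPushAdj f) I hI
  have hfac := (DCoh.RpushEt X (f ≫ g)).rightDerived_fac_app
    ((DCoh.pushEtKh X (f ≫ g)).totalRightDerivedUnit DerivedCategory.Qh WX) WX
    (DCoh.RpushEt X f ⋙ DCoh.RpushEt Y g) (EtSix.compUnit f g) I'
  have h1 := Mod48.isIso_unit_of_kInjective (DCoh.RpushEt X (f ≫ g))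
    ((DCoh.pushEtKh X (f ≫ g)).totalRightDerivedUnit DerivedCategory.Qh WX) (enoughKInj_ab X) I hI
  have h2 := Mod48.isIso_unit_of_kInjective (DCoh.RpushEt X f)
    ((DCoh.pushEtKh X f).totalRightDerivedUnit DerivedCategory.Qh WX) (enoughKInj_ab X) I hI
  have h3 := Mod48.isIso_unit_of_kInjective (DCoh.RpushEt Y g)
    ((DCoh.pushEtKh Y g).totalRightDerivedUnit DerivedCategory.Qh WY) (enoughKInj_ab Y)
    (((EtCoh.push f).mapHomologicalComplex (ComplexShape.up ℤ)).obj I) hJ
  have h4 : IsIso ((NatTrans.mapHomotopyCategory (EtCoh.pushComp g f).inv (ComplexShape.up ℤ)).app I') := by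
    have : IsIso ((NatTrans.mapHomologicalComplex (EtCoh.pushComp g f).inv (ComplexShape.up ℤ)).app I) :=
      have : ∀ n, IsIso (((NatTrans.mapHomologicalComplex (EtCoh.pushComp g f).inv
          (ComplexShape.up ℤ)).app I).f n) := fun n => inferInstanceAs (IsIso ((EtCoh.pushComp g f).inv.app _))
      HomologicalComplex.Hom.isIso_of_components _
    exact Functor.map_isIso (HomotopyCategory.quotient (EtCoh.Ab Z) (ComplexShape.up ℤ))
      ((NatTrans.mapHomologicalComplex (EtCoh.pushComp g f).inv (ComplexShape.up ℤ)).app I)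
  have h5 : IsIso ((EtSix.compUnit f g).app I') := by
    simp only [EtSix.compUnit, NatTrans.comp_app, Functor.associator_hom_app, Functor.associator_inv_app,
      Functor.whiskerLeft_app, Functor.whiskerRight_app, Category.id_comp, Category.comp_id]
    refine @IsIso.comp_isIso _ _ _ _ _ _ _ ?_ ?_
    · exact @Functor.map_isIso _ _ _ _ _ _ DerivedCategory.Qh _ (@IsIso.comp_isIso _ _ _ _ _ _ _ h4 inferInstance)
    · exact @IsIso.comp_isIso _ _ _ _ _ _ _ h3
        (@Functor.map_isIso _ _ _ _ _ _ (DCoh.RpushEt Y g) _ h2)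
  exact @IsIso.of_isIso_comp_left _ _ _ _ _ _ _ h1 (hfac.symm ▸ h5)

theorem isIso_compMapMod (Λ : Type (u + 1)) [CommRing Λ] : IsIso (EtSix.compMapMod Λ f g) := by
  refine isIso_rPlusDesc₂ _ fun I hI => ?_
  have := preservesFiniteLimits_pullMod Λ f
  exact Injective.injective_of_adjoint (EtSix.pullPushModAdj Λ f) I

end Et

end Groth.Agent.Six47
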