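import Groth.Agent.SiteCoh.Torsion
import Groth.Agent.SiteMod.Scal
import Mathlib.Algebra.Category.ModuleCat.Adjunctions
import Mathlib.CategoryTheory.Sites.Abelian

/-!
On a site of any size: underlying abelian sheaves of injective sheaves of `R`-modules have no higher
`Ext` out of torsion-free abelian sheaves.
-/

universe w v u

open CategoryTheory CategoryTheory.Limits CategoryTheory.Abelian Opposite
open scoped TensorProduct

namespace Groth.Agent.Six47

variable {C : Type u} [Category.{v} C] (J : GrothendieckTopology C)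
  [HasSheafify J AddCommGrpCat.{w}]

local notation "AbSh" => Sheaf J AddCommGrpCat

/-- Torsion-free abelian sheaves. -/
def TFree (A : Sheaf J AddCommGrpCat.{w}) : Prop := ∀ n : ℕ, n ≠ 0 → Mono (n • 𝟙 A)

lemma nsmul_hom_app (A : Sheaf J AddCommGrpCat.{w}) (n : ℕ) (U : Cᵒᵖ) (x : A.obj.obj U) :
    (n • 𝟙 A).hom.app U x = n • x := by
  induction n with
  | zero => simp only [zero_smul]; rfl
  | succ n ih =>
    rw [succ_nsmul, succ_nsmul]
    exact congrArg (· + x) ih

lemma TFree.eq_zero {A : Sheaf J AddCommGrpCat.{w}} (h : TFree J A) {n : ℕ} (hn : n ≠ 0) (U : Cᵒᵖ)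
    (x : A.obj.obj U) (hx : n • x = 0) : x = 0 := by
  have := h n hn
  have h1 : Mono (((sheafToPresheaf J _).map (n • 𝟙 A)).app U) :=
    (NatTrans.mono_iff_mono_app _).1 inferInstance _
  exact (AddCommGrpCat.mono_iff_injective _).1 h1
    ((nsmul_hom_app J A n U x).trans (hx.trans (map_zero ((n • 𝟙 A).hom.app U).hom).symm))

lemma TFree.of_mono {A B : Sheaf J AddCommGrpCat.{w}} (f : A ⟶ B) [Mono f] (h : TFree J B) :
    TFree J A := fun n hn => by
  have := h n hn
  have : Mono ((n • 𝟙 A) ≫ f) := by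
    rw [Preadditive.nsmul_comp, Category.id_comp, ← Category.comp_id f, ← Preadditive.comp_nsmul]
    exact mono_comp _ _
  exact mono_of_mono (n • 𝟙 A) f

/-- Sheafifications of sectionwise torsion-free presheaves are torsion-free. -/
lemma tFree_sheafify (P : Cᵒᵖ ⥤ AddCommGrpCat.{w})
    (hP : ∀ (U : Cᵒᵖ) (n : ℕ) (x : P.obj U), n ≠ 0 → n • x = 0 → x = 0) :
    TFree J ((presheafToSheaf J AddCommGrpCat.{w}).obj P) := fun n hn => by
  rw [← (presheafToSheaf J AddCommGrpCat.{w}).map_id, ← Functor.map_nsmul]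
  have : ∀ U : Cᵒᵖ, Mono ((n • 𝟙 P).app U) := fun U => by
    rw [AddCommGrpCat.mono_iff_injective, injective_iff_map_eq_zero]
    intro x hx
    refine hP U n x hn (Eq.trans ?_ hx)
    simp
  have := NatTrans.mono_of_mono_app (n • 𝟙 P)
  infer_instance

lemma exists_tFree_epi (E : Sheaf J AddCommGrpCat.{w}) :
    ∃ (P : Sheaf J AddCommGrpCat.{w}) (p : P ⟶ E), TFree J P ∧ Epi p := by
  let Fr : Cᵒᵖ ⥤ AddCommGrpCat.{w} := E.obj ⋙ forget AddCommGrpCat.{w} ⋙ AddCommGrpCat.free.{w}
  let ε : Fr ⟶ E.obj := Functor.whiskerLeft E.obj AddCommGrpCat.adj.{w}.counit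
  have : Epi ε := by
    have : ∀ U, Epi (ε.app U) := fun U => inferInstanceAs (Epi (AddCommGrpCat.adj.{w}.counit.app _))
    exact NatTrans.epi_of_epi_app _
  refine ⟨_, (presheafToSheaf J _).map ε ≫ (sheafificationAdjunction J _).counit.app E,
    tFree_sheafify J Fr fun U n x hn hx => SiteCoh.freeAbelianGroup_nsmul_eq_zero hn hx, ?_⟩
  have : Epi ((presheafToSheaf J AddCommGrpCat.{w}).map ε) := inferInstance
  exact epi_comp _ _

variable (R : Type w) [CommRing R]

/-- `M ↦ R ⊗ M`. -/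
noncomputable def scalFun : AddCommGrpCat.{w} ⥤ ModuleCat.{w} R where
  obj M := ModuleCat.of R (R ⊗[ℤ] M)
  map f := ModuleCat.ofHom (TensorProduct.AlgebraTensorModule.map LinearMap.id f.hom.toIntLinearMap)
  map_id M := ModuleCat.hom_ext (TensorProduct.AlgebraTensorModule.ext fun _ _ => rfl)
  map_comp f g := ModuleCat.hom_ext (TensorProduct.AlgebraTensorModule.ext fun _ _ => rfl)

/-- `m ↦ 1 ⊗ m`. -/
noncomputable def scalη : 𝟭 AddCommGrpCat.{w} ⟶ scalFun R ⋙ forget₂ (ModuleCat.{w} R) AddCommGrpCat.{w} where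
  app M := AddCommGrpCat.ofHom
    (AddMonoidHom.mk' (fun m => ((1 : R) ⊗ₜ[ℤ] m : R ⊗[ℤ] M)) fun a b => TensorProduct.tmul_add _ a b)
  naturality _ _ _ := rfl

/-- `r ⊗ m ↦ r • m`. -/
noncomputable def scalε : forget₂ (ModuleCat.{w} R) AddCommGrpCat.{w} ⋙ scalFun R ⟶ 𝟭 (ModuleCat.{w} R) where
  app M := ModuleCat.ofHom (TensorProduct.AlgebraTensorModule.lift
    ((LinearMap.ringLmapEquivSelf R ℤ (M →ₗ[ℤ] M)).symm LinearMap.id))
  naturality M N f := ModuleCat.hom_ext (TensorProduct.AlgebraTensorModule.ext fun r m =>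
    (f.hom.map_smul r m).symm)

variable [HasSheafify J (ModuleCat.{w} R)] [J.HasSheafCompose (forget₂ (ModuleCat.{w} R) AddCommGrpCat.{w})]

/-- The extension property for underlying abelian sheaves of injective sheaves of modules. -/
theorem extends_forget_injective (I : Sheaf J (ModuleCat.{w} R)) [Injective I]
    (S : ShortComplex (Sheaf J AddCommGrpCat.{w})) (hS : S.ShortExact) (h3 : TFree J S.X₃)
    (φ : S.X₁ ⟶ (sheafCompose J (forget₂ (ModuleCat.{w} R) AddCommGrpCat.{w})).obj I) :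
    ∃ ψ : S.X₂ ⟶ (sheafCompose J (forget₂ (ModuleCat.{w} R) AddCommGrpCat.{w})).obj I, S.f ≫ ψ = φ := by
  let j : S.X₁.obj ⋙ scalFun R ⟶ S.X₂.obj ⋙ scalFun R := Functor.whiskerRight S.f.hom (scalFun R)
  have : Mono j := by
    have : ∀ U, Mono (j.app U) := fun U => by
      let F : Sheaf J AddCommGrpCat.{w} ⥤ AddCommGrpCat.{w} :=
        sheafToPresheaf J AddCommGrpCat.{w} ⋙ (evaluation Cᵒᵖ AddCommGrpCat.{w}).obj U
      have hl : PreservesFiniteLimits F := comp_preservesFiniteLimits _ _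
      have := hS.mono_f
      have hi : Function.Injective (S.f.hom.app U) :=
        (AddCommGrpCat.mono_iff_injective _).1 (inferInstanceAs (Mono (F.map S.f)))
      have he : Function.Exact (S.f.hom.app U) (S.g.hom.app U) :=
        (ShortComplex.ab_exact_iff_function_exact _).1
          (ShortComplex.Exact.map_of_mono_of_preservesKernel hS.exact F hS.mono_f inferInstance)
      rw [ModuleCat.mono_iff_injective]
      intro x y hxy
      exact SiteMod.lTensor_injective_of_torsionFree (S.f.hom.app U).hom hi (S.g.hom.app U).hom he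
        (fun n z hn hz => h3.eq_zero J hn U z hz) R hxy
    exact NatTrans.mono_of_mono_app _
  let adj := sheafificationAdjunction J (ModuleCat.{w} R)
  let φ' : S.X₁.obj ⋙ scalFun R ⟶ I.obj :=
    Functor.whiskerRight φ.hom (scalFun R) ≫ Functor.whiskerLeft I.obj (scalε R)
  let e := (adj.homEquiv _ I).symm φ'
  have : Mono ((presheafToSheaf J (ModuleCat.{w} R)).map j) := inferInstance
  let ψ₀ := adj.homEquiv _ I (Injective.factorThru e ((presheafToSheaf J (ModuleCat.{w} R)).map j))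
  have hψ : j ≫ ψ₀ = φ' :=
    (adj.homEquiv_naturality_left j _).symm.trans
      ((congrArg (adj.homEquiv _ I) (Injective.comp_factorThru e _)).trans ((adj.homEquiv _ I).apply_symm_apply φ'))
  refine ⟨⟨Functor.whiskerLeft S.X₂.obj (scalη R) ≫
    Functor.whiskerRight ψ₀ (forget₂ (ModuleCat.{w} R) AddCommGrpCat.{w})⟩, ?_⟩
  apply ObjectProperty.hom_ext
  ext U a
  have h := congr($(hψ).app U ((1 : R) ⊗ₜ[ℤ] a))
  exact Eq.trans h (one_smul R (show I.obj.obj U from φ.hom.app U a))

variable [HasExt.{w} (Sheaf J AddCommGrpCat.{w})] [EnoughInjectives (Sheaf J AddCommGrpCat.{w})]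

/-- No higher `Ext` from torsion-free sheaves into underlying sheaves of injective modules. -/
theorem ext_forget_injective_subsingleton (I : Sheaf J (ModuleCat.{w} R)) [Injective I] :
    ∀ (n : ℕ) (A : Sheaf J AddCommGrpCat.{w}), TFree J A →
      Subsingleton (Ext.{w} A ((sheafCompose J (forget₂ (ModuleCat.{w} R) AddCommGrpCat.{w})).obj I) (n + 1)) := by
  intro n
  induction n with
  | zero =>
    refine fun A hA => subsingleton_of_forall_eq 0 fun ξ => ?_
    obtain ⟨E, e, he, h⟩ := SiteCoh.exists_epi_comp_eq_zero 0 _ A ξ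
    obtain ⟨P, p, hP, hp⟩ := exists_tFree_epi J E
    have hS : (ShortComplex.mk (kernel.ι (p ≫ e)) (p ≫ e) (kernel.condition _)).ShortExact :=
      { exact := ShortComplex.exact_of_f_is_kernel _ (kernelIsKernel (p ≫ e))
        mono_f := inferInstance
        epi_g := epi_comp _ _ }
    have h' : (Ext.mk₀ (p ≫ e)).comp ξ (zero_add 1) = 0 := by
      rw [← Ext.mk₀_comp_mk₀, Ext.comp_assoc _ _ _ (zero_add 0) (zero_add 1) (by omega), h,
        Ext.comp_zero]
    obtain ⟨ζ, rfl⟩ := Ext.contravariant_sequence_exact₃ hS _ ξ h' (n₀ := 0) rfl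
    obtain ⟨φ, rfl⟩ := Ext.addEquiv₀.symm.surjective ζ
    obtain ⟨ψ, rfl⟩ := extends_forget_injective J R I _ hS hA φ
    change hS.extClass.comp (Ext.mk₀ (kernel.ι (p ≫ e) ≫ ψ)) _ = 0
    rw [← Ext.mk₀_comp_mk₀, ← Ext.comp_assoc _ _ _ (add_zero 1) (zero_add 0) (by omega),
      hS.extClass_comp, Ext.zero_comp]
  | succ n ih =>
    refine fun A hA => subsingleton_of_forall_eq 0 fun ξ => ?_
    obtain ⟨E, e, he, h⟩ := SiteCoh.exists_epi_comp_eq_zero (n + 1) _ A ξ
    obtain ⟨P, p, hP, hp⟩ := exists_tFree_epi J E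
    have hS : (ShortComplex.mk (kernel.ι (p ≫ e)) (p ≫ e) (kernel.condition _)).ShortExact :=
      { exact := ShortComplex.exact_of_f_is_kernel _ (kernelIsKernel (p ≫ e))
        mono_f := inferInstance
        epi_g := epi_comp _ _ }
    have h' : (Ext.mk₀ (p ≫ e)).comp ξ (zero_add (n + 1 + 1)) = 0 := by
      rw [← Ext.mk₀_comp_mk₀,
        Ext.comp_assoc _ _ _ (zero_add 0) (zero_add (n + 1 + 1)) (by omega), h, Ext.comp_zero]
    obtain ⟨ζ, rfl⟩ := Ext.contravariant_sequence_exact₃ hS _ ξ h' (n₀ := n + 1) (by omega)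
    have := ih _ (hP.of_mono J (kernel.ι (p ≫ e)))
    rw [Subsingleton.elim ζ 0, Ext.comp_zero]

end Groth.Agent.Six47
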