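import Groth.Prelude.Def_SixF2
import Groth.Agent.Six47.TorExt
import Groth.Agent.SiteCoh.ExtCompare

/-!
Cohomology of a sheaf of modules is that of the underlying abelian sheaf.
-/

universe u

open CategoryTheory CategoryTheory.Limits CategoryTheory.Abelian AlgebraicGeometry Opposite

set_option backward.isDefEq.respectTransparency.types false

namespace Groth.Agent.Six47

variable (Λ : Type (u + 1)) [CommRing Λ] {X : Scheme.{u}}

/-- A module sheaf map out of `Λ_X` is a global section. -/
lemma constΛ_hom_bijective (F : EtModW.Mod Λ X) :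
    Function.Bijective fun φ : EtSix.constΛ Λ X ⟶ F =>
      ((EtSix.constModAdj Λ X).homEquiv (ModuleCat.of Λ Λ) F φ).hom (1 : Λ) := by
  have h : Function.Bijective fun g : ModuleCat.of Λ Λ ⟶ (EtSix.gsecMod Λ X).obj F => g.hom (1 : Λ) :=
    ⟨fun g g' h => ModuleCat.hom_ext (LinearMap.ext_ring h),
      fun a => ⟨ModuleCat.ofHom (LinearMap.toSpanSingleton Λ _ a), one_smul Λ a⟩⟩
  exact h.comp ((EtSix.constModAdj Λ X).homEquiv _ F).bijective

/-- An abelian sheaf map out of `ℤ_X` is a global section. -/
lemma constℤ_hom_bijective (G : EtCoh.Ab X) :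
    Function.Bijective fun φ : (constantSheaf X.smallEtaleTopology AddCommGrpCat.{u + 1}).obj
        (AddCommGrpCat.of (ULift.{u + 1} ℤ)) ⟶ G =>
      ((EtCore.constAdj X).homEquiv _ G φ).hom (ULift.up (1 : ℤ)) := by
  have h : Function.Bijective fun g : AddCommGrpCat.of (ULift.{u + 1} ℤ) ⟶ (EtCore.gsec X).obj G =>
      g.hom (ULift.up (1 : ℤ)) :=
    ⟨fun g g' h => AddCommGrpCat.hom_ext (AddMonoidHom.ext fun x => by
        have hx : x = x.down • (ULift.up (1 : ℤ)) := by ext; simp
        rw [hx, map_zsmul, map_zsmul]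
        exact congrArg _ h),
      fun a => ⟨AddCommGrpCat.ofHom ((zmultiplesHom _ a).comp (AddEquiv.ulift (α := ℤ)).toAddMonoidHom),
        one_zsmul a⟩⟩
  exact h.comp ((EtCore.constAdj X).homEquiv _ G).bijective

theorem HModToH_bijective
    [PreservesFiniteLimits (EtModD.forgetToAb Λ X)] [PreservesFiniteColimits (EtModD.forgetToAb Λ X)]
    [(EtModD.forgetToAb Λ X).Additive] (F : EtModW.Mod Λ X) (n : ℕ) :
    Function.Bijective (EtSix.HModToH Λ F n) := by
  have h0 : ∀ F : EtModW.Mod Λ X, Function.Bijective fun φ : EtSix.constΛ Λ X ⟶ F =>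
      EtSix.intToConstΛ Λ X ≫ (EtModD.forgetToAb Λ X).map φ := fun F => by
    refine (Function.Bijective.of_comp_iff' (constℤ_hom_bijective ((EtModD.forgetToAb Λ X).obj F)) _).1 ?_
    refine (Eq.subst (motive := Function.Bijective) ?_ (constΛ_hom_bijective Λ F))
    funext φ
    simp only [Function.comp_apply]
    rw [EtSix.intToConstΛ, Adjunction.homEquiv_naturality_right, Equiv.apply_symm_apply]
    rw [Adjunction.homEquiv_unit]
    exact (congrArg (fun z => ((EtCore.gsec X).map ((EtModD.forgetToAb Λ X).map φ)).hom z)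
      (one_zsmul _)).symm
  refine (SiteCoh.extTransfer_bijective (EtModD.forgetToAb Λ X) (EtSix.intToConstΛ Λ X) h0 ?_ n F)
  intro J hJ k
  exact ext_forget_injective_subsingleton X.smallEtaleTopology Λ J k _
    (tFree_sheafify.{u + 1} X.smallEtaleTopology
      ((Functor.const _).obj (AddCommGrpCat.of (ULift.{u + 1} ℤ)))
      fun U m (x : ULift.{u + 1} ℤ) hm (hx : m • x = 0) => ULift.ext _ _ (by
        have := congrArg ULift.down hx
        simpa [hm] using this))

end Groth.Agent.Six47
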